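import Cfsg.Agent.CosetCert.M11Ab720.CheckLog
import Cfsg.Agent.CosetCert.M11Ab720.CheckTable
import Cfsg.Agent.CosetCert.Upper

/-! Generated: validity of the certificate. -/

namespace Cfsg.Agent.CosetCert.M11Ab720

theorem log_valid : data.LogValid where
  n_pos := by decide +kernel
  root := by decide +kernel
  log := log_ok
  coset := coset_ok
  iv_iv := fun x hx => by
    change x < 3 at hx
    interval_cases x <;> exact ⟨rfl, by decide +kernel⟩
  iv_big := fun x hx => by
    change 3 ≤ x at hx
    show (if x = 1 then 2 else if x = 2 then 1 else x) = x
    split_ifs <;> omega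
  pw := by decide +kernel
  letters := by decide +kernel
  K_small := by decide +kernel
  nR_le := by decide +kernel

end Cfsg.Agent.CosetCert.M11Ab720
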