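import Cfsg.Agent.CosetCert.M11Ab720.FactsData
import Cfsg.Agent.CosetCert.M11Ab720.JustData
import Cfsg.Agent.CosetCert.M11Ab720.EdgeData
import Cfsg.Agent.CosetCert.M11Ab720.RepData
import Cfsg.Agent.CosetCert.M11Ab720.TreeData
import Cfsg.Agent.CosetCert.CoxExtra
import Cfsg.Agent.CosetCert.Pack

/-! Generated: the certificate. -/

set_option maxRecDepth 100000

namespace Cfsg.Agent.CosetCert.M11Ab720

noncomputable def data : Data where
  K := 3
  n := 720
  M := 5992
  Nf := 10203
  nR := 9
  iv := fun x => if x = 1 then 2 else if x = 2 then 1 else x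
  F := get48 factStore
  J := getVar justStore
  E := get48 edgeStore
  L := get48 repStore
  P := get48 treeStore
  W := [

    [0, 0],
    [1, 1, 1, 1],
    [0, 1, 0, 1, 0, 1, 0, 1, 0, 1, 0, 1, 0, 1, 0, 1, 0, 1, 0, 1, 0, 1],
    [0, 1, 1, 0, 1, 1, 0, 1, 1, 0, 1, 1, 0, 1, 1, 0, 1, 1],
    [0, 1, 0, 1, 0, 1, 1, 1, 0, 1, 0, 1, 1, 0, 1, 1, 1, 0, 1, 0, 1, 1, 1, 0, 1, 1, 1],
    [],
    [0, 0],
    [1, 2],
    [2, 1],
    [0, 1]]
  PW := fun k => Nat.land (Nat.shiftRight 0x20800000000000000000000000000000004300000000000000000000000000000000c400000000000000000000000000000000840000000000000000000000000000000000842088420882210822104411084110441000000000000841108221044208841108200000010441104411044110441104411040000000000000000000000000000084210000000000000000000000000000000021 (Nat.mul 135 k)) 0x7fffffffffffffffffffffffffffffffff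
  powers := [

    ([0], 2),
    ([1], 4),
    ([0, 1], 11),
    ([0, 1, 1], 6),
    ([0, 1, 0, 1, 0, 1, 1, 1, 0, 1, 0, 1, 1, 0, 1, 1, 1, 0, 1, 0, 1, 1, 1, 0, 1, 1, 1], 1),
    ([], 0),
    ([0], 2),
    ([1, 2], 1),
    ([2, 1], 1)]

/-- The relators of the presentation. -/
def relWords : List (List (Fin 2 × Bool)) := [
    [(0, true), (0, true)],
    [(1, true), (1, true), (1, true), (1, true)],
    [(0, true), (1, true), (0, true), (1, true), (0, true), (1, true), (0, true), (1, true), (0, true), (1, true), (0, true), (1, true), (0, true), (1, true), (0, true), (1, true), (0, true), (1, true), (0, true), (1, true), (0, true), (1, true)],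
    [(0, true), (1, true), (1, true), (0, true), (1, true), (1, true), (0, true), (1, true), (1, true), (0, true), (1, true), (1, true), (0, true), (1, true), (1, true), (0, true), (1, true), (1, true)],
    [(0, true), (1, true), (0, true), (1, true), (0, true), (1, true), (1, true), (1, true), (0, true), (1, true), (0, true), (1, true), (1, true), (0, true), (1, true), (1, true), (1, true), (0, true), (1, true), (0, true), (1, true), (1, true), (1, true), (0, true), (1, true), (1, true), (1, true)]]

/-- The numbering of the generators. -/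
def enc (b : Fin 2) : Nat := b.val

/-- The generator of a number. -/
def dec : Nat → Fin 2 × Bool
  | 0 => (0, true)
  | 1 => (1, true)
  | _ => (1, false)

/-- The subgroup's generator. -/
def subGens : List (FreeGroup (Fin 2)) := [FreeGroup.of 0 * FreeGroup.of 1]

end Cfsg.Agent.CosetCert.M11Ab720
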